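import Cfsg.Agent.Block.Cyc3
import Cfsg.Agent.BlockK.K3

/-!
# Free inertial action and an even projective lattice give height zero
-/

set_option autoImplicit false

namespace CF.H16

open Cfsg MonoidAlgebra Subgroup CF.Block CF.BlockB CF.BlockK
open scoped ComplexConjugate IsMulCommutative

variable {M : Ideal AlgInt} {G : Type*} [Group G] [Fintype G] {B : Set (IrrCharacter G)}
  {P : Subgroup G} {e : (k M)[G]}

theorem fr_v_orbS {p : ℕ} (hM : IsPModular p M) {A : Type*} [Group A] [Finite A]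
    (hA : IsPGroup p A) (E : Subgroup (MulAut A)) (ψ : A →* ℂˣ) (u : A) :
    v M (orbS E ψ u - Nat.card E) < 1 := by
  have := Fintype.ofFinite E
  rw [orbS_eq, Nat.card_eq_fintype_card, ← Finset.card_univ, Finset.cast_card,
    ← Finset.sum_sub_distrib]
  refine v_sum_lt_one fun σ _ => ?_
  obtain ⟨n, hn⟩ := hA ((σ : MulAut A) u)
  exact v_sub_one_lt_one_of_pow_eq_one hM (k := n)
    (by rw [← Units.val_pow_eq_pow_val, ← map_pow, hn, map_one, Units.val_one])

theorem fr_parity {w : G → ℂ} {ζ : (P →* ℂˣ) → IrrCharacter G} {a : IrrCharacter G → ℤ}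
    {d δ : ℤ} (h : FD 2 B P e w ζ a d δ) (hP : P ≠ ⊥) [DecidablePred (· ∈ B)]
    (hev : ∀ x : IrrCharacter G → ℤ,
      PV 2 (∑ χ ∈ Finset.univ.filter (· ∈ B), (x χ : ℂ) • (χ : G → ℂ)) →
        Even (∑ χ ∈ Finset.univ.filter (· ∈ B), x χ ^ 2))
    {χ : IrrCharacter G} (hχ : χ ∈ B \ FY ζ) : Odd (a χ + d) := by
  classical
  have := Fintype.ofFinite (P →* ℂˣ)
  obtain ⟨r, hr⟩ : ∃ r : ℕ, r = (Nat.card P - 1) / Nat.card (FE P e) := ⟨_, rfl⟩
  have hodd : Odd r := by
    have h1 := Nat.div_mul_cancel h.fs.dvd_sub_one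
    rw [← hr] at h1
    have h2 : Odd (Nat.card P - 1) := by
      have h3 := h.fs.card_eq_pow
      have h4 : blockDefect 2 B ≠ 0 := fun h5 => hP (by
        rw [h5, pow_zero] at h3; exact Subgroup.card_eq_one.1 h3)
      rw [h3]
      exact Nat.Even.sub_odd Nat.one_le_two_pow (Nat.even_pow.2 ⟨even_two, h4⟩) odd_one
    rw [← h1] at h2
    exact (Nat.odd_mul.1 h2).1
  have hY : (Set.toFinite (FY ζ)).toFinset.card = r := by
    rw [← Set.ncard_eq_toFinset_card _ (Set.toFinite _), ← Nat.card_coe_set_eq, h.card_FY, hr]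
  set x : IrrCharacter G → ℤ := fun η =>
    if η ∈ FY ζ then a χ else if η = χ then δ - r * d else 0 with hx
  have hsp : InSpan B (∑ η ∈ Finset.univ.filter (· ∈ B), (x η : ℂ) • (η : G → ℂ)) :=
    inSpan_sum _ fun η hη => (inSpan_irr (Finset.mem_filter.1 hη).2).smul _
  have hX : ∀ (F : IrrCharacter G → ℂ), ∑ᶠ η ∈ B \ FY ζ, (x η : ℂ) * F η =
      (δ - r * d : ℤ) * F χ := fun F => by
    rw [finsum_mem_eq_finite_toFinset_sum _ (Set.toFinite _), Finset.sum_eq_single_of_mem χ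
      ((Set.Finite.mem_toFinset _).2 hχ) fun η hη hne => by
        simp [hx, ((Set.Finite.mem_toFinset _).1 hη).2, hne]]
    simp [hx, hχ.2]
  have hYs : ∀ c : ℂ, ∑ᶠ η ∈ FY ζ, (x η : ℂ) * c = r * (a χ * c) := fun c => by
    rw [finsum_mem_eq_finite_toFinset_sum _ (Set.toFinite _), Finset.sum_congr rfl
      fun η hη => show _ = (a χ : ℂ) * c by simp [hx, (Set.Finite.mem_toFinset _).1 hη],
      Finset.sum_const, hY, nsmul_eq_mul]
  have hpv : PV 2 (∑ η ∈ Finset.univ.filter (· ∈ B), (x η : ℂ) • (η : G → ℂ)) := by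
    refine h.fs.pv_of_Dv h.glue hsp fun u hu => ?_
    rw [h.fs.Dv_eq_sum h.glue hsp.classFun hu]
    refine Finset.sum_eq_zero fun ψ _ => ?_
    by_cases hψ : ψ = 1
    · rw [hψ, vv_one, Char.inner_zero_right, zero_mul]
    rw [Char.inner_sum_left, Finset.sum_congr rfl fun η _ => Char.inner_smul_left _ _ _,
      h.sum_split hψ fun c η => (x η : ℂ) * c, hX fun η => -a η, hYs]
    have : x (ζ ψ) = a χ := by simp [hx, show ζ ψ ∈ FY ζ from ⟨ψ, hψ, rfl⟩]
    rw [this]
    push_cast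
    ring
  have h1 := hev x hpv
  have h2 : ∑ η ∈ Finset.univ.filter (· ∈ B), x η ^ 2 = r * a χ ^ 2 + (δ - r * d) ^ 2 := by
    rw [← Finset.sum_filter_add_sum_filter_not _ (· ∈ FY ζ)]
    congr 1
    · rw [Finset.sum_congr (s₂ := (Set.toFinite (FY ζ)).toFinset)
        (by ext η; simpa using fun h1 => h.FY_subset h1)
        fun η hη => show _ = a χ ^ 2 by simp [hx, (Set.Finite.mem_toFinset _).1 hη],
        Finset.sum_const, hY, nsmul_eq_mul]
    · rw [Finset.sum_eq_single_of_mem χ (by simpa using hχ) fun η hη hne => by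
        simp [hx, (Finset.mem_filter.1 hη).2, hne]]
      simp [hx, hχ.2]
  rw [h2] at h1
  obtain ⟨s, rfl⟩ := hodd
  rw [← Int.not_even_iff_odd]
  intro h3
  have hδ : Odd δ := by rcases h.sign with h4 | h4 <;> simp [h4]
  obtain ⟨t, ht⟩ := h3
  obtain ⟨c, hc⟩ := hδ
  rw [show a χ = t + t - d by omega, hc] at h1
  refine Int.not_even_iff_odd.2 ⟨?_, ?_⟩ h1
  · exact (2 * s + 1) * (2 * t ^ 2 - 2 * t * d) + 2 * c ^ 2 + 2 * c -
      (2 * c + 1) * (2 * s + 1) * d + (2 * s + 1) * (s + 1) * d ^ 2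
  · push_cast
    ring

/-- Free action and even projective lattice: all heights vanish. -/
theorem free_height' (hF : FS 2 B P e) (hP : P ≠ ⊥) [DecidablePred (· ∈ B)]
    (hev : ∀ x : IrrCharacter G → ℤ,
      PV 2 (∑ χ ∈ Finset.univ.filter (· ∈ B), (x χ : ℂ) • (χ : G → ℂ)) →
        Even (∑ χ ∈ Finset.univ.filter (· ∈ B), x χ ^ 2)) :
    ∀ χ ∈ B, blockHeight 2 B (χ : G → ℂ) = 0 := by
  obtain ⟨w, ζ, a, d, δ, h⟩ := hF.exists_fD'
  have := (nontrivial_iff_ne_bot P).2 hP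
  obtain ⟨u, hu⟩ := _root_.exists_ne (1 : P)
  have hE : Odd (Nat.card (FE P e) : ℤ) := by
    have := hF.not_dvd
    rw [← even_iff_two_dvd, Nat.not_even_iff_odd] at this
    exact_mod_cast this
  have hδ : Odd δ := by rcases h.sign with h4 | h4 <;> simp [h4]
  have key : ∀ χ ∈ B, (blockHeight 2 B (χ : G → ℂ) = 0 ↔ Even d) := fun χ hχ => by
    rw [hF.height_zero_iff h.glue hχ hu]
    by_cases hY : χ ∈ FY ζ
    · obtain ⟨ψ, hψ, rfl⟩ := hY
      have h1 : ∀ y : P, v M ((d + δ * orbS (FE P e) ψ y) -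
          ((d + δ * Nat.card (FE P e) : ℤ) : ℂ)) < 1 := fun y => by
        rw [show (d + δ * orbS (FE P e) ψ y) - ((d + δ * Nat.card (FE P e) : ℤ) : ℂ) =
          δ * (orbS (FE P e) ψ y - Nat.card (FE P e)) by push_cast; ring]
        exact v_mul_lt_one_right (v_intCast_le_one M _) (fr_v_orbS hF.mod hF.pair.isP _ ψ y)
      rw [h.Dv_Y hψ hu, map_add (starRingEnd ℂ), map_mul (starRingEnd ℂ), map_intCast, map_intCast,
        conj_orbS, map_mul]
      by_cases hd : Even d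
      · have h2 : v M ((d + δ * Nat.card (FE P e) : ℤ) : ℂ) = 1 :=
          (v_intCast_eq_one_iff hF.mod _).2 (by
            rw [Nat.cast_ofNat, ← even_iff_two_dvd, Int.not_even_iff_odd]
            exact hd.add_odd (hδ.mul hE))
        simp [hd, v_eq_one_of_sub_lt_one (h1 _) h2]
      · have h2 : v M ((d + δ * Nat.card (FE P e) : ℤ) : ℂ) < 1 :=
          (v_intCast_lt_one_iff hF.mod _).2 (by
            rw [Nat.cast_ofNat, ← even_iff_two_dvd]
            exact (Int.not_even_iff_odd.1 hd).add_odd (hδ.mul hE))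
        refine iff_of_false (ne_of_lt ?_) hd
        rw [← map_mul]
        exact v_mul_lt_one_left (v_lt_one_of_sub_lt_one (h1 _) h2)
          (v_lt_one_of_sub_lt_one (h1 _) h2).le
    · have h1 := fr_parity h hP hev ⟨hχ, hY⟩
      rw [h.Dv_X hY hu, map_intCast, ← Int.cast_mul, v_intCast_eq_one_iff hF.mod, Nat.cast_ofNat,
        ← even_iff_two_dvd, Int.even_mul, or_self, Int.not_even_iff_odd]
      exact Int.odd_add.1 h1
  obtain ⟨χ₀, h0, h1⟩ := exists_height_zero (p := 2) (block_nonempty hF.mod hF.blk)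
  exact fun χ hχ => (key χ hχ).2 ((key χ₀ h0).1 h1)

theorem free_sq' {A Q : Type*} [Group A] [Finite A] [CommGroup Q] [Finite Q] {φ : A →* MulAut Q}
    (h16 : Nat.card Q = 16) (h3 : ¬ Nat.card A ≤ 3)
    (hfree : ∀ a x, x ≠ 1 → φ a x = x → a = 1) (x : Q) : x * x = 1 := by
  have hi : ∀ x : Q, x ≠ 1 → Nat.card A ∣ (Sf φ x).index := fun x hx => by
    rw [show Sf φ x = ⊥ from eq_bot_iff.2 fun a ha => hfree a x hx (mem_Sf.1 ha), index_bot]
  have h1 := dvd_sub_one hi
  have h2 := dvd_of_index' (φ := φ) (R := Om Q 2) (fun a x => by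
    simp only [MonoidHom.mem_ker, powMonoidHom_apply, ← map_pow, MulEquiv.map_eq_one_iff])
    fun x hx => hi x fun h => hx (h ▸ one_mem _)
  have h4 := card_subgroup_dvd_card (Om Q 2)
  rw [h16] at h1 h2 h4
  have h5 : 5 ∣ Nat.card A := by
    have := Nat.le_of_dvd (by norm_num) h1
    generalize Nat.card A = n at *
    interval_cases n <;> omega
  have h6 : Nat.card (Om Q 2) ≠ 1 := fun h => by
    obtain ⟨y, hy⟩ := exists_prime_orderOf_dvd_card' (G := Q) 2 (by rw [h16]; norm_num)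
    have : y ∈ Om Q 2 := by
      rw [MonoidHom.mem_ker, powMonoidHom_apply, ← hy, pow_orderOf_eq_one]
    rw [Subgroup.card_eq_one.1 h, mem_bot] at this
    simp [this] at hy
  have h7 : Nat.card (Om Q 2) = Nat.card Q := by
    have h8 := h5.trans h2
    have := Nat.le_of_dvd (by norm_num) h4
    rw [h16]
    generalize Nat.card (Om Q 2) = n at *
    interval_cases n <;> omega
  have : x ∈ Om Q 2 := eq_top_of_card_eq _ h7 ▸ mem_top x
  rwa [MonoidHom.mem_ker, powMonoidHom_apply, sq] at this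

theorem free_sq [IsMulCommutative P] (h16 : Nat.card P = 16) (h3 : ¬ Nat.card (FE P e) ≤ 3)
    (hfree : ∀ a x, x ≠ 1 → (FE P e).subtype a x = x → a = 1) : ∀ x ∈ P, x * x = 1 :=
  fun x hx => congrArg Subtype.val (free_sq' (φ := (FE P e).subtype) h16 h3 hfree ⟨x, hx⟩)

theorem free_height_of (hM : IsPModular 2 M) (hB : IsPBlock M B)
    (he : MaxPair 2 ⊤ (eb M B) P e) [IsMulCommutative P] (h16 : Nat.card P = 16)
    (h3 : ¬ Nat.card (FE P e) ≤ 3)
    (hfree : ∀ a x, x ≠ 1 → (FE P e).subtype a x = x → a = 1) [DecidablePred (· ∈ B)]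
    (hev : P ≠ ⊥ → (∀ x ∈ P, x * x = 1) → ∀ x : IrrCharacter G → ℤ,
      PV 2 (∑ χ ∈ Finset.univ.filter (· ∈ B), (x χ : ℂ) • (χ : G → ℂ)) →
        Even (∑ χ ∈ Finset.univ.filter (· ∈ B), x χ ^ 2)) :
    ∀ χ ∈ B, blockHeight 2 B (χ : G → ℂ) = 0 := by
  have hP : P ≠ ⊥ := fun h => by simp [h] at h16
  refine free_height' (fS_of_free' hM hB he (fun x hx y hy => ?_) fun σ hσ x hx h => ?_) hP
    (hev hP (free_sq h16 h3 hfree))
  · exact congrArg Subtype.val (mul_comm (⟨y, hy⟩ : P) ⟨x, hx⟩)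
  · exact congrArg Subtype.val (hfree ⟨σ, hσ⟩ x hx h)

end CF.H16
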