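import Cfsg.Agent.H16.Free
import Cfsg.Agent.Evn.A

/-!
# Free inertial action on a defect group of order sixteen
-/

set_option autoImplicit false

namespace CF.H16

open Cfsg MonoidAlgebra Subgroup CF.Block CF.BlockB CF.BlockK
open scoped IsMulCommutative

variable {M : Ideal AlgInt} {G : Type*} [Group G] [Fintype G] {B : Set (IrrCharacter G)}
  {P : Subgroup G} {e : (k M)[G]}

theorem free_height (hM : IsPModular 2 M) (hB : IsPBlock M B)
    (he : MaxPair 2 ⊤ (eb M B) P e) [IsMulCommutative P] (h16 : Nat.card P = 16)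
    (h3 : ¬ Nat.card (FE P e) ≤ 3)
    (hfree : ∀ a x, x ≠ 1 → (FE P e).subtype a x = x → a = 1) (hD : IsDefectGroup 2 M B P) :
    ∀ χ ∈ B, blockHeight 2 B (χ : G → ℂ) = 0 := by
  classical
  exact free_height_of hM hB he h16 h3 hfree fun h1 h2 => CF.Evn.even_sum hM hB hD h1 h2

end CF.H16
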