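import Cfsg.Agent.BlockK.K7
import Cfsg.Agent.H16.NineM

/-!
# Heights in blocks with defect group of order sixteen and inertial index nine
-/

namespace CF.H16

open Cfsg MonoidAlgebra Subgroup CF.Block CF.BlockB CF.BlockK Finset
open scoped ComplexConjugate IsMulCommutative

universe u

variable {M : Ideal AlgInt} {G : Type u} [Group G] [Fintype G] {B : Set (IrrCharacter G)}
  {P : Subgroup G} {e : (k M)[G]}

theorem nine_height (hM : IsPModular 2 M) (hB : IsPBlock M B) (he : MaxPair 2 ⊤ (eb M B) P e)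
    [IsMulCommutative P] {V W : Subgroup P} (h : Nine (FE P e).subtype V W) :
    ∀ χ ∈ B, blockHeight 2 B (χ : G → ℂ) = 0 := by
  classical
  have := Fintype.ofFinite P
  have := Fintype.ofFinite B
  have gV := h.gV hM he
  have gW := h.gW hM he
  have gR := gV.mul gW
  obtain ⟨A, hA⟩ := gV.exists_mat (B := B) hM he
  obtain ⟨C, hC⟩ := gW.exists_mat (B := B) hM he
  obtain ⟨R, hR⟩ := gR.exists_mat (B := B) hM he
  have hpos := fun f h0 w hw i n => @cm_pos _ _ _ _ _ _ _ _ _ hM hB he le_cent f h0 w hw i n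
  have hcl := fun i : B => Char.irr_isClassFunction i.1.2
  obtain ⟨⟨v, hv⟩, hv1⟩ := ne_bot_iff_exists_ne_one.1 ((one_lt_card_iff_ne_bot V).1
    (by rw [h.cardV]; norm_num))
  obtain ⟨⟨w, hw⟩, hw1⟩ := ne_bot_iff_exists_ne_one.1 ((one_lt_card_iff_ne_bot W).1
    (by rw [h.cardW]; norm_num))
  have hvW : v ∉ W := fun h1 => hv1 (Subtype.ext (h.disj v hv h1))
  have hwV : w ∉ V := fun h1 => hw1 (Subtype.ext (h.disj w h1 hw))
  have hX : ∀ i : B, ((16 - 4 * A i i - 4 * C i i + R i i : ℤ) : ℂ) = ∑ u : P,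
      ((16 - 4 * co V - 4 * co W + co V * co W : P → ℤ) u : ℂ) / fcard 2 P e u *
        cm 2 (sbl 2 P e u) u (i.1 : G → ℂ) (i.1 : G → ℂ) := fun i => by
    have h1 := sum_cm_div_fcard hM hB he (inSpan_irr i.2) (hcl i)
    rw [Char.inner_irr_self i.1.2] at h1
    push_cast
    rw [← hA, ← hC, ← hR, gV.inner hM he (hcl i) (hcl i), gW.inner hM he (hcl i) (hcl i),
      gR.inner hM he (hcl i) (hcl i), ← mul_one (16 : ℂ), ← h1, mul_sum, mul_sum, mul_sum,
      ← sum_sub_distrib, ← sum_sub_distrib, ← sum_add_distrib]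
    exact sum_congr rfl fun u _ => by simp; ring
  have hf1 : fcard 2 P e (1 : P) = 1 := by
    rw [fcard_eq_index hM he le_cent, index_eq_one, eq_top_iff]
    exact fun a _ => map_one _
  have hd : (2 : ℂ) ^ blockDefect 2 (sbl 2 P e (1 : P)) = 16 := by
    have := charP_k hM
    have h1 := card_defectGroup hM hB ((isDefectGroup_iff hM hB _).2 he.isDefGrp)
    rw [h.cardQ, ← blockDefect_sbl_of_le hM hB he (1 : P).2 (le_Cen_of_comm le_cent (1 : P).2)] at h1
    exact_mod_cast h1.symm
  have hodd : ∀ i : B, Odd (R i i) ↔ blockHeight 2 B (i.1 : G → ℂ) = 0 := fun i => by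
    have h1 := hX i
    rw [sum_eq_single (1 : P) (fun u _ hu => by
      by_cases h5 : u ∈ V <;> by_cases h6 : u ∈ W
      · exact absurd (h.disj u h5 h6) hu
      all_goals simp [co, h5, h6]) (by simp), hf1] at h1
    rw [← and_self_iff (a := blockHeight 2 B (i.1 : G → ℂ) = 0),
      ← v_cm_eq_one_iff hM (exists_orderOf_of_mem hM.1 he.bpair.pair.isP (1 : P).2) le_rfl
        (isInducedBlock_sbl hM hB he.bpair (1 : P).2) i.2 i.2, Nat.cast_ofNat, hd,
      show (16 : ℂ) * cm 2 (sbl 2 P e (1 : P)) (1 : P) (i.1 : G → ℂ) (i.1 : G → ℂ) =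
        ((16 - 4 * A i i - 4 * C i i + R i i : ℤ) : ℂ) by rw [h1]; simp [co],
      v_intCast_eq_one_iff hM, Int.odd_iff]
    omega
  obtain ⟨χ₀, h0, h1⟩ := exists_height_zero (p := 2) (block_nonempty hM hB)
  refine fun χ hχ => (hodd ⟨χ, hχ⟩).1 (nine_mat (gV.mat_symm hM he hA) (gW.mat_symm hM he hC)
    (gR.mat_symm hM he hR)
    (gV.mat_mul hM hB he hA gV hA gV hA fun u => by simp only [co]; split_ifs <;> rfl)
    (gW.mat_mul hM hB he hC gW hC gW hC fun u => by simp only [co]; split_ifs <;> rfl)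
    (fun i j => (gV.mat_mul hM hB he hA gW hC gR hR (fun u => (one_mul _).symm) i j).trans (one_mul _))
    (gV.mat_mul hM hB he hA gR hR gR hR fun u => by simp only [co, Pi.mul_apply]; split_ifs <;> rfl)
    (gW.mat_mul hM hB he hC gR hR gR hR fun u => by simp only [co, Pi.mul_apply]; split_ifs <;> rfl)
    (gR.mat_mul hM hB he hR gR hR gR hR fun u => by simp only [co, Pi.mul_apply]; split_ifs <;> rfl)
    (Int.cast_injective (α := ℂ) ?_) (Int.cast_injective (α := ℂ) ?_) (Int.cast_injective (α := ℂ) ?_)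
    (fun i => hpos (co V * co W) (fun u => by simp only [co, Pi.mul_apply]; split_ifs <;> norm_num)
      (v * w) (by simp [co, V.mul_mem_cancel_left hv, W.mul_mem_cancel_right hw, hvW, hwV]) i _
      (by rw [← hR, gR.inner hM he (hcl i) (hcl i)]))
    (fun i => sub_pos.1 (hpos (4 * co V - co V * co W)
      (fun u => by simp only [co, Pi.mul_apply, Pi.sub_apply, Pi.ofNat_apply]; split_ifs <;> norm_num)
      w (by simp [co, hw, hwV]) i _ ?_))
    (fun i => sub_pos.1 (hpos (4 * co W - co V * co W)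
      (fun u => by simp only [co, Pi.mul_apply, Pi.sub_apply, Pi.ofNat_apply]; split_ifs <;> norm_num)
      v (by simp [co, hv, hvW]) i _ ?_))
    (fun i => hpos (16 - 4 * co V - 4 * co W + co V * co W)
      (fun u => by
        simp only [co, Pi.mul_apply, Pi.sub_apply, Pi.add_apply, Pi.ofNat_apply]
        split_ifs <;> norm_num)
      1 (by simp [co]) i _ (hX i)) ⟨⟨χ₀, h0⟩, (hodd _).2 h1⟩ _)
  · rw [gV.mat_trace hM hB he hA, h.trace hM hB he _ (a := 0) (b := 4) (c := 4)] <;>
      simp +contextual [co]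
    norm_num
  · rw [gW.mat_trace hM hB he hC, h.trace hM hB he _ (a := 4) (b := 0) (c := 4)] <;>
      simp +contextual [co]
    norm_num
  · rw [gR.mat_trace hM hB he hR, h.trace hM hB he _ (a := 0) (b := 0) (c := 16)] <;>
      simp +contextual [co]
  · push_cast
    rw [← hR, ← hA, gR.inner hM he (hcl i) (hcl i), gV.inner hM he (hcl i) (hcl i), mul_sum,
      ← sum_sub_distrib]
    exact sum_congr rfl fun u _ => by simp; ring
  · push_cast
    rw [← hR, ← hC, gR.inner hM he (hcl i) (hcl i), gW.inner hM he (hcl i) (hcl i), mul_sum,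
      ← sum_sub_distrib]
    exact sum_congr rfl fun u _ => by simp; ring

end CF.H16
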