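import Cfsg.Agent.BlockK.K8
import Cfsg.Agent.BlockB.Avg

/-!
# Heights and the number of major subsections
-/

open scoped Classical

namespace CF.H16

open Cfsg MonoidAlgebra Subgroup CF.Block CF.BlockB CF.BlockK Finset

section

variable {α : Type*} {r : α → α → Prop}

theorem orb_one (hs : ∀ a b, r a b → r b a) (ht : ∀ a b c, r a b → r b c → r a c) (X : Finset α)
    (w : α) : ∑ u ∈ X.filter (r w), (1 : ℝ) / (X.filter (r u)).card =
      (X.filter (r w)).card / (X.filter (r w)).card := by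
  rw [sum_congr rfl (g := fun _ => (1 : ℝ) / (X.filter (r w)).card) fun u hu => by
    rw [filter_congr fun x _ => (⟨ht _ _ _ (mem_filter.1 hu).2,
      ht _ _ _ (hs _ _ (mem_filter.1 hu).2)⟩ : r u x ↔ r w x)], sum_const, nsmul_eq_mul, mul_one_div]

theorem orb_mono (hs : ∀ a b, r a b → r b a) (ht : ∀ a b c, r a b → r b c → r a c)
    {X Y : Finset α} (hXY : X ⊆ Y) (hr : ∀ a ∈ X, r a a) {g : α → ℝ} (h0 : ∀ a, 0 ≤ g a)
    (hg : ∀ a b, r a b → g a = g b) :
    ∑ u ∈ X, g u / (X.filter (r u)).card ≤ ∑ w ∈ Y, g w / (Y.filter (r w)).card := by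
  calc _ = ∑ u ∈ X, ∑ w ∈ Y, if r u w then
        g w / (Y.filter (r w)).card * (1 / (X.filter (r u)).card) else 0 := by
        refine sum_congr rfl fun u hu => ?_
        have h1 := orb_one hs ht Y u
        rw [div_self (Nat.cast_ne_zero.2 (card_ne_zero.2 ⟨u, mem_filter.2 ⟨hXY hu, hr u hu⟩⟩))] at h1
        rw [← sum_filter]
        refine ((mul_one _).symm.trans (congrArg _ h1.symm)).trans ((mul_sum _ _ _).trans ?_)
        exact sum_congr rfl fun w hw => by rw [hg _ _ (mem_filter.1 hw).2]; ring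
    _ ≤ _ := by
        rw [sum_comm]
        refine sum_le_sum fun w _ => ?_
        rw [← sum_filter, ← mul_sum, filter_congr fun x _ => (⟨hs _ _, hs _ _⟩ : r x w ↔ r w x),
          orb_one hs ht]
        have := h0 w
        exact mul_le_of_le_one_right (by positivity) (div_self_le_one _)

end

universe u

variable {M : Ideal AlgInt} {G : Type u} [Group G] [Finite G] {B : Set (IrrCharacter G)}
  {P : Subgroup G} {e : (k M)[G]} {χ : IrrCharacter G}
  (hM : IsPModular 2 M) (hB : IsPBlock M B) (he : MaxPair 2 ⊤ (eb M B) P e)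
include hM hB he

theorem orb_sum [Fintype G] (hχ : χ ∈ B) (h0 : blockHeight 2 B (χ : G → ℂ) ≠ 0) :
    2 ^ (blockHeight 2 B (χ : G → ℂ) + 1) * ∑ u ∈ univ.filter (· ∈ P ⊓ centralizer (P : Set G)),
      (1 : ℝ) / ((univ.filter (· ∈ P ⊓ centralizer (P : Set G))).filter (FConj 2 P e u)).card ≤
      Nat.card P := by
  have := charP_k hM
  have hp := he.bpair.pair
  have hcf := Char.irr_isClassFunction χ.2
  set Z := P ⊓ centralizer (P : Set G) with hZ
  have hc : ∀ u ∈ Z, P ≤ Cen u := fun u hu x hx => mem_Cen.2 (mem_centralizer_iff.1 hu.2 x hx)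
  have hn : ∀ u ∈ Z, ((univ.filter (· ∈ Z)).filter (FConj 2 P e u)).card =
      (Cen u).relIndex (stab (Nz ⊤ P) e) := fun u hu => by
    rw [← card_ccl, Nat.card_eq_fintype_card, Fintype.card_subtype, filter_filter]
    refine congrArg _ (filter_congr fun w _ => ⟨fun h => h.2.exists_stab hM he (hc u hu) (hc w h.1),
      fun ⟨t, ht, h⟩ => ?_⟩)
    have h1 := h ▸ fConj_of_stab hM hp hu.1 ht
    refine ⟨⟨h1.right, mem_centralizer_iff.2 fun x hx => ?_⟩, h1⟩
    have h2 := mem_Cen.1 (hc u hu ((mem_normalizer_iff''.1 (stab_le_normalizer ht) x).1 hx))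
    rw [← h]
    calc _ = t * (t⁻¹ * x * t * u) * t⁻¹ := by group
      _ = _ := by rw [h2]; group
  let g : G → ℝ := fun u => ‖cm 2 (sbl 2 P e u) u (χ : G → ℂ) χ‖
  have h1 := orb_mono (r := FConj 2 P e) (fun _ _ => FConj.symm) (fun _ _ _ => FConj.trans hM hp)
    (X := univ.filter (· ∈ Z)) (Y := univ.filter (· ∈ P))
    (fun x hx => by simpa using (mem_filter.1 hx).2.1)
    (fun a ha => FConj.refl hM hp (mem_filter.1 ha).2.1) (g := g) (fun _ => norm_nonneg _)
    fun a b h => congrArg norm (h.cm_eq hM hp hcf hcf)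
  have h2 : ∑ w ∈ univ.filter (· ∈ P), g w / ((univ.filter (· ∈ P)).filter (FConj 2 P e w)).card = 1 := by
    have h3 := sum_cm_div_fcard hM hB he (inSpan_irr hχ) hcf
    rw [Char.inner_irr_self χ.2, sum_congr rfl fun (u : P) _ => by
      rw [cm_self_eq_norm hM (nrm_eSet_le_one hM (sbl_spec hM hp u.2).1)]] at h3
    rw [sum_subtype (p := (· ∈ P)) _ (by simp)]
    refine Eq.trans (sum_congr rfl fun u _ => ?_) (by exact_mod_cast h3 :
      ∑ u : P, g u / fcard 2 P e u = 1)
    congr 2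
    rw [fcard, filter_filter, ← Fintype.card_subtype, ← Nat.card_eq_fintype_card]
    exact Nat.card_congr (Equiv.subtypeSubtypeEquivSubtypeInter _ _).symm
  set c : ℝ := 2 ^ (blockHeight 2 B (χ : G → ℂ) + 1)
  have h3 := card_mul_le_sum_of_gens Z (c := 0) (F := fun u => (2 ^ blockDefect 2 B * g u - c) /
    (Cen u).relIndex (stab (Nz ⊤ P) e)) fun x hx => by
      obtain ⟨a, ha, h4⟩ := exists_cavg_of_height hM (exists_orderOf_of_mem hM.1 hp.isP hx.1) rfl
        (isInducedBlock_sbl hM hB he.bpair hx.1) (blockDefect_sbl_of_le hM hB he hx.1 (hc x hx)) hχ h0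
      have h5 := card_mul_cavg (p := 2) (sbl 2 P e x) x χ
      rw [h4, blockDefect_sbl_of_le hM hB he hx.1 (hc x hx)] at h5
      rw [mul_zero, sum_congr rfl (g := fun u : zpowers x => (2 ^ blockDefect 2 B *
        ‖cm 2 (sbl 2 P e x) u (χ : G → ℂ) χ‖ - c) / (Cen x).relIndex (stab (Nz ⊤ P) e)) fun u hu => by
          rw [cen_eq_of_mem_gens hu]
          simp only [g]
          rw [cm_sbl_of_zpowers_eq hM hp hx.1 (zpowers_eq_of_mem_gens hu)], ← sum_div,
        sum_sub_distrib, sum_const, nsmul_eq_mul]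
      refine div_nonneg (sub_nonneg.2 ?_) (Nat.cast_nonneg _)
      rw [Nat.cast_ofNat] at h5
      refine le_of_le_of_eq ?_ h5
      have : (1 : ℝ) ≤ a := by exact_mod_cast Nat.pos_of_ne_zero ha
      exact mul_le_mul_of_nonneg_left (le_mul_of_one_le_right (by positivity) this) (Nat.cast_nonneg _)
  rw [h2] at h1
  rw [mul_zero, ← sum_subtype (p := (· ∈ Z)) (univ.filter (· ∈ Z)) (by simp)
    fun u => (2 ^ blockDefect 2 B * g u - c) / (Cen u).relIndex (stab (Nz ⊤ P) e),
    sum_congr rfl (g := fun u => 2 ^ blockDefect 2 B * (g u / ((univ.filter (· ∈ Z)).filter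
      (FConj 2 P e u)).card) - c * (1 / ((univ.filter (· ∈ Z)).filter (FConj 2 P e u)).card))
      fun u hu => by rw [hn u (mem_filter.1 hu).2]; ring, sum_sub_distrib, ← mul_sum, ← mul_sum,
    sub_nonneg] at h3
  rw [he.isDefGrp.card_eq_pow hM hB]
  push_cast
  convert h3.trans (mul_le_of_le_one_right (by positivity) h1)

theorem orb_bound (S : Finset G) (hc : ∀ u ∈ S, u ∈ P ∧ P ≤ Cen u)
    (hS : ∀ u ∈ S, ∀ w ∈ S, FConj 2 P e u w → w = u) (hχ : χ ∈ B)
    (h0 : blockHeight 2 B (χ : G → ℂ) ≠ 0) :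
    S.card * 2 ^ (blockHeight 2 B (χ : G → ℂ) + 1) ≤ Nat.card P := by
  have := Fintype.ofFinite G
  have hp := he.bpair.pair
  have h1 := orb_mono (r := FConj 2 P e) (fun _ _ => FConj.symm) (fun _ _ _ => FConj.trans hM hp)
    (X := S) (Y := univ.filter (· ∈ P ⊓ centralizer (P : Set G)))
    (fun x hx => mem_filter.2 ⟨mem_univ _, (hc x hx).1, mem_centralizer_iff.2 fun y hy =>
      mem_Cen.1 ((hc x hx).2 hy)⟩)
    (fun a ha => FConj.refl hM hp (hc a ha).1) (g := fun _ => 1) (fun _ => zero_le_one)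
    fun _ _ _ => rfl
  rw [sum_congr rfl (g := fun _ => (1 : ℝ)) fun u hu => by
    rw [show S.filter (FConj 2 P e u) = {u} from eq_singleton_iff_unique_mem.2
      ⟨mem_filter.2 ⟨hu, FConj.refl hM hp (hc u hu).1⟩, fun w hw =>
        hS u hu w (mem_filter.1 hw).1 (mem_filter.1 hw).2⟩]
    simp, sum_const, nsmul_eq_mul, mul_one] at h1
  have h2 := (mul_le_mul_of_nonneg_left h1 (by positivity)).trans (orb_sum hM hB he hχ h0)
  rw [mul_comm]
  exact_mod_cast h2

theorem small_height (hab : P ≤ centralizer (P : Set G)) (h16 : Nat.card P = 16)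
    (h3 : Nat.card (FE P e) ≤ 3) (hχ : χ ∈ B) : blockHeight 2 B (χ : G → ℂ) = 0 := by
  by_contra h0
  have := Fintype.ofFinite G
  have h1 := orb_sum hM hB he hχ h0
  rw [inf_eq_left.2 hab, h16] at h1
  have h2 : (16 : ℝ) * (1 / 3) ≤ ∑ u ∈ univ.filter (· ∈ P),
      (1 : ℝ) / ((univ.filter (· ∈ P)).filter (FConj 2 P e u)).card := by
    have h4 : (univ.filter (· ∈ P)).card = 16 := by
      rw [← Fintype.card_subtype, ← Nat.card_eq_fintype_card, h16]
    refine le_of_eq_of_le ?_ (card_nsmul_le_sum _ _ (1 / 3) fun u hu => ?_)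
    · rw [h4, nsmul_eq_mul, Nat.cast_ofNat]
    have hu := (mem_filter.1 hu).2
    have h5 : ((univ.filter (· ∈ P)).filter (FConj 2 P e u)).card = fcard 2 P e u := by
      rw [fcard, filter_filter, ← Fintype.card_subtype, ← Nat.card_eq_fintype_card]
      exact Nat.card_congr (Equiv.subtypeSubtypeEquivSubtypeInter _ _).symm
    have h6 := fcard_eq_index hM he hab ⟨u, hu⟩
    have h7 := (Nat.le_of_dvd Nat.card_pos (Sf (FE P e).subtype ⟨u, hu⟩).index_dvd_card).trans h3
    rw [h5]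
    exact one_div_le_one_div_of_le (Nat.cast_pos.2 (Nat.pos_of_ne_zero
      (fcard_ne_zero hM he.bpair.pair hu))) (by exact_mod_cast h6.trans_le h7)
  have h4 : (2 : ℝ) ^ 2 ≤ 2 ^ (blockHeight 2 B (χ : G → ℂ) + 1) :=
    pow_le_pow_right₀ one_le_two (by omega)
  have h5 := (mul_le_mul h4 h2 (by norm_num) (by positivity)).trans h1
  norm_num at h5

theorem three_bound {t c : G} (ht : t ∈ P) (hc : c ∈ P) (ht1 : t ≠ 1) (hc1 : c ≠ 1) (hct : c ≠ t)
    (h1 : P ≤ Cen t) (h2 : P ≤ Cen c) (h : ¬ FConj 2 P e t c) (h16 : Nat.card P = 16)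
    (hχ : χ ∈ B) : blockHeight 2 B (χ : G → ℂ) < 2 := by
  by_contra h0
  have h3 : ∀ u, FConj 2 P e 1 u → u = 1 := fun u hu =>
    orderOf_eq_one_iff.1 ((FConj.orderOf_eq' hu).symm.trans orderOf_one)
  have h4 := orb_bound hM hB he {1, t, c} (by
    simp only [mem_insert, mem_singleton, forall_eq_or_imp, forall_eq]
    exact ⟨⟨one_mem _, fun x _ => mem_Cen.2 (by simp)⟩, ⟨ht, h1⟩, hc, h2⟩) (by
    simp only [mem_insert, mem_singleton, forall_eq_or_imp, forall_eq]
    exact ⟨⟨fun _ => trivial, h3 _, h3 _⟩, ⟨fun h => (h3 _ h.symm).symm, fun _ => trivial, fun h' => (h h').elim⟩,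
      fun h => (h3 _ h.symm).symm, fun h' => (h h'.symm).elim, fun _ => trivial⟩) hχ (by omega)
  rw [card_eq_three.2 ⟨1, t, c, ht1.symm, hc1.symm, hct.symm, rfl⟩, h16] at h4
  have h5 : 2 ^ 3 ≤ 2 ^ (blockHeight 2 B (χ : G → ℂ) + 1) := Nat.pow_le_pow_right two_pos (by omega)
  omega

theorem nonab_height (h16 : Nat.card P = 16) (hn : ¬ IsMulCommutative P) (hχ : χ ∈ B) :
    blockHeight 2 B (χ : G → ℂ) < (center P).index.factorization 2 := by
  have := charP_k hM
  have : Fact (Nat.Prime 2) := ⟨Nat.prime_two⟩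
  have hP := he.bpair.pair.isP
  have hcyc : ¬ IsCyclic (P ⧸ center P) := fun _ =>
    hn (isMulCommutative_of_isCyclic_quotient_center_self _)
  obtain ⟨j, hj⟩ := hP.index (center P)
  have hj2 : 2 ≤ j := by
    by_contra h
    refine hcyc (isCyclic_of_card_dvd_prime (p := 2) ?_)
    rw [← index_eq_card, hj]
    interval_cases j <;> simp
  rw [hj, Nat.Prime.factorization_pow Nat.prime_two, Finsupp.single_eq_same]
  have hd : blockDefect 2 B = 4 := Nat.pow_right_injective le_rfl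
    ((he.isDefGrp.card_eq_pow hM hB).symm.trans h16)
  rcases hj2.lt_or_eq with h | rfl
  · by_cases h0 : blockHeight 2 B (χ : G → ℂ) = 0
    · omega
    · have := height_add_two_le hM hB hχ h0
      omega
  rcases ci2_or_sx hP h16.le (fun h => hn (isComm_of h)) with ⟨x, hx, y, hy, h⟩ | ⟨t, c, h⟩
  · have h1 := ((zpowers x).subgroupOf P).index_mul_card
    have h2 : ((zpowers x).subgroupOf P).index ≤ 2 := Nat.le_of_dvd two_pos
      (relIndex_dvd_two_iff.2 ⟨y⁻¹, inv_mem hy, fun b hb => (h b hb).symm⟩)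
    rw [Nat.card_congr (subgroupOfEquivOfLe (zpowers_le_of_mem hx)).toEquiv, Nat.card_zpowers,
      h16] at h1
    have h3 : x ^ 4 ≠ 1 := fun h4 => by
      have := Nat.mul_le_mul h2 (orderOf_le_of_pow_eq_one four_pos h4)
      omega
    have h4 : (⟨x, hx⟩ : P) ^ 2 ∈ center P := by
      rw [← QuotientGroup.eq_one_iff, QuotientGroup.mk_pow, ← orderOf_dvd_iff_pow_eq_one]
      have h5 := orderOf_dvd_natCard ((⟨x, hx⟩ : P) : P ⧸ center P)
      rw [← index_eq_card, hj] at h5
      obtain ⟨i, hi, h6⟩ := (Nat.dvd_prime_pow Nat.prime_two).1 h5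
      rcases hi.lt_or_eq with hi | rfl
      · rw [h6]
        interval_cases i <;> simp
      · exact (hcyc (isCyclic_of_orderOf_eq_card _ (by rw [h6, ← index_eq_card, hj]))).elim
    have h5 : P ≤ Cen (x ^ 2) := fun z hz =>
      mem_Cen.2 (congrArg Subtype.val (mem_center_iff.1 h4 ⟨z, hz⟩))
    have h6 : orderOf (x ^ 4) < orderOf (x ^ 2) := by
      obtain ⟨i, hi⟩ := exists_orderOf_of_mem Nat.prime_two hP (pow_mem hx 2)
      have h7 : 2 ∣ orderOf (x ^ 2) := by
        rw [hi]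
        refine dvd_pow_self _ fun h8 => h3 ?_
        rw [h8, pow_zero, orderOf_eq_one_iff] at hi
        rw [show x ^ 4 = (x ^ 2) ^ 2 by group, hi, one_pow]
      rw [show x ^ 4 = (x ^ 2) ^ 2 by group, orderOf_pow_of_dvd two_ne_zero h7]
      exact Nat.div_lt_self (orderOf_pos _) one_lt_two
    refine three_bound hM hB he (pow_mem hx 4) (pow_mem hx 2) h3 (fun h7 => h3 ?_)
      (fun h7 => h6.ne (by rw [h7])) (fun z hz => mem_Cen.2 ?_) h5
      (fun h7 => h6.ne (FConj.orderOf_eq' h7)) h16 hχ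
    · rw [show x ^ 4 = (x ^ 2) ^ 2 by group, h7, one_pow]
    · rw [show x ^ 4 = (x ^ 2) ^ 2 by group]
      exact (show Commute z (x ^ 2) from mem_Cen.1 (h5 hz)).pow_right 2
  · refine three_bound hM hB he h.tP h.cP h.t1 h.c1 h.ct h.tc h.cc (fun h1 => ?_) h16 hχ
    obtain ⟨g, hg, h2⟩ := h1.exists_stab hM he h.tc h.cc
    obtain ⟨x, hx, y, hy, h3⟩ := h.na
    have h4 := (h.comm x hx y hy).resolve_left h3
    have h5 := fun z => (mem_normalizer_iff.1 (stab_le_normalizer hg) z).1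
    have h6 : g * x * g⁻¹ * (g * y * g⁻¹) = g * y * g⁻¹ * (g * x * g⁻¹) * c := by
      rw [← h2]
      calc _ = g * (x * y) * g⁻¹ := by group
        _ = _ := by rw [h4]; group
    rcases h.comm _ (h5 x hx) _ (h5 y hy) with h7 | h7
    · exact h.c1 (mul_eq_left.1 (h6.symm.trans h7))
    · exact h.ct (mul_left_cancel (h6.symm.trans h7))

end CF.H16
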