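import Cfsg.Agent.H16.SevC
import Cfsg.Agent.Kkl.B

/-! Heights in blocks with abelian defect group of order sixteen and inertial index divisible
by seven. -/

set_option autoImplicit false

namespace CF.H16

open Cfsg MonoidAlgebra Subgroup CF.Block CF.BlockB CF.BlockK

universe u

theorem seven_height {M : Ideal AlgInt} {G : Type u} [Group G] [Finite G]
    {B : Set (IrrCharacter G)} {P : Subgroup G} {e : (k M)[G]} (hM : IsPModular 2 M)
    (hB : IsPBlock M B) (he : MaxPair 2 ⊤ (eb M B) P e) (hD : IsDefectGroup 2 M B P)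
    [IsMulCommutative P] (h16 : Nat.card P = 16) (h7 : 7 ∣ Nat.card (FE P e)) :
    ∀ χ ∈ B, blockHeight 2 B (χ : G → ℂ) = 0 :=
  seven_height_of hM (fun hb hf h8 hel h => CF.Kkl.core' hM hb hf h8 hel h) hB he hD h16 h7

end CF.H16
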