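import Cfsg.Agent.BlockK.K4

/-! An odd order group of automorphisms of order divisible by seven of an abelian group of
order sixteen fixes an involution. -/

namespace CF.H16

open Subgroup CF.BlockK Function

theorem Sev_fix {A Q : Type*} [Group A] [Finite A] [CommGroup Q] [Finite Q] {φ : A →* MulAut Q}
    (hQ : IsPGroup 2 Q) (hA : ¬ 2 ∣ Nat.card A) (hφ : Injective φ) (h16 : Nat.card Q = 16)
    (h7 : 7 ∣ Nat.card A) :
    ∃ z : Q, (∀ a, φ a z = z) ∧ (zpowers z).index = 8 ∧ ∀ x : Q, x * x = 1 := by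
  have := Fact.mk Nat.prime_seven
  obtain ⟨s, hs⟩ := exists_prime_orderOf_dvd_card' 7 h7
  have s7 : s ^ 7 = 1 := hs ▸ pow_orderOf_eq_one s
  have s1 : s ≠ 1 := by rintro rfl; simp at hs
  have hi : ∀ u : Q, (zpowers u).index ≤ 16 := fun u =>
    Nat.le_of_dvd (by norm_num) (h16 ▸ index_dvd_card _)
  obtain ⟨e1, e2, e3⟩ := sev_data hφ s7 s1 (map_one (φ s)) (hi 1)
  have h8 := index_eq_eight hQ e1 e2 e3
  have h2 : Nat.card (Fx (φ s)) = 2 := by
    have := (Fx (φ s)).card_mul_index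
    rw [h8, h16] at this
    omega
  obtain ⟨⟨z, hz⟩, hz1⟩ := ne_bot_iff_exists_ne_one.1 (show Fx (φ s) ≠ ⊥ from
    (one_lt_card_iff_ne_bot _).1 (by omega))
  have hz1 : z ≠ 1 := fun h => hz1 (Subtype.ext h)
  have hF : Fx (φ s) = zpowers z := eq_zpowers (h2 ▸ Nat.prime_two) hz hz1
  have hz2 : z ^ 2 = 1 := h2 ▸ pow_card_of_mem hz
  have hFx : ∀ y, φ s y = y → y = 1 ∨ y = z := fun y hy => by
    have h3 : y ∈ zpowers z := hF ▸ mem_Fx.2 hy
    obtain ⟨i, rfl⟩ := mem_powers_iff_mem_zpowers.2 h3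
    obtain ⟨j, rfl | rfl⟩ := Nat.even_or_odd' i
    · left; simp [pow_mul, hz2]
    · right; simp [pow_succ, pow_mul, hz2]
  refine ⟨z, ?_, hF ▸ h8, fun x => ?_⟩
  swap
  · obtain ⟨c, hc, a, ha, rfl⟩ := exists_dec Nat.prime_two hQ e1 (by norm_num) x
    have h3 : c * c = 1 := by rw [← sq, ← h2]; exact pow_card_of_mem hc
    rw [mul_mul_mul_comm, h3, sev_sq hQ e1 e2 e3 ha, one_mul]
  have h3 : 7 ∣ ((Set.range fun a => φ a z) \ {z}).ncard := by
    refine dvd_of_index (φ := φ.comp (zpowers s).subtype) ?_ ?_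
    · rintro a _ ⟨⟨b, rfl⟩, hb⟩
      refine ⟨⟨a * b, by simp⟩, fun h => hb ?_⟩
      have h4 : φ a z = z := fix_of_zpowers a.2 hz
      exact (φ a).injective (h.trans h4.symm)
    · rintro _ ⟨⟨b, rfl⟩, hb⟩
      have h4 : Nat.card (zpowers s) = 7 := by rw [Nat.card_zpowers, hs]
      have : Fact (Nat.card (zpowers s)).Prime := ⟨h4 ▸ Nat.prime_seven⟩
      rcases eq_bot_or_eq_top_of_prime_card (Sf (φ.comp (zpowers s).subtype) (φ b z)) with h | h
      · rw [h, index_bot, h4]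
      · rcases hFx _ (mem_Sf.1 (h ▸ mem_top (⟨s, mem_zpowers s⟩ : zpowers s))) with h5 | h5
        · exact absurd (by simpa using h5) hz1
        · exact absurd h5 hb
  have h4 := index_Sf (φ := φ) z
  rw [Set.ncard_sdiff_singleton_of_mem (show z ∈ Set.range fun a => φ a z from ⟨1, by simp⟩),
    ← h4] at h3
  have h5 := index_Sf_lt (φ := φ) hz1
  have h6 := odd_index hA (φ := φ) z
  have h9 : (Sf φ z).index ≠ 15 := fun h9 => by
    obtain ⟨w, -, hw⟩ := exists_not_seven hQ hA hφ s7 s1 hz (hi z)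
    have hw1 : w ≠ 1 := by
      rintro rfl
      have h12 := orderOf_dvd_natCard (⟨s, map_one (φ s)⟩ : Sf φ 1)
      rw [← Subgroup.orderOf_coe] at h12
      exact hw (hs ▸ h12)
    have h10 : (Set.range fun a => φ a z) = {1}ᶜ := by
      refine Set.eq_of_subset_of_ncard_le (Set.range_subset_iff.2 fun a => by simpa using hz1) ?_
      rw [Set.ncard_compl, Set.ncard_singleton, h16, ← h4, h9]
    obtain ⟨a, rfl⟩ := h10.ge hw1
    refine hw ?_
    have h11 : a * s * a⁻¹ ∈ Sf φ (φ a z) := by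
      rw [mem_Sf, ← MulAut.mul_apply, ← map_mul, inv_mul_cancel_right, map_mul, MulAut.mul_apply,
        mem_Fx.1 hz]
    have h12 := orderOf_dvd_natCard (⟨_, h11⟩ : Sf φ (φ a z))
    rw [← Subgroup.orderOf_coe] at h12
    have h13 : orderOf (a * s * a⁻¹) = 7 := hs ▸ (MulAut.conj a).orderOf_eq s
    exact h13 ▸ h12
  have h10 : (Sf φ z).index = 1 := by omega
  exact fun a => mem_Sf.1 (index_eq_one.1 h10 ▸ mem_top a)

end CF.H16
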