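import Cfsg.Agent.H16.SevA
import Cfsg.Agent.E8b.B
import Cfsg.Agent.E8b.C
import Cfsg.Agent.BlockK.K9

/-! Blocks with abelian defect group of order sixteen and inertial index divisible by seven. -/

set_option autoImplicit false

namespace CF.H16

open Cfsg MonoidAlgebra Subgroup CF.Block CF.BlockB CF.BlockK CF.E8b
open scoped IsMulCommutative

universe u

variable {M : Ideal AlgInt} {G : Type u} [Group G] [Finite G] {B : Set (IrrCharacter G)}
  {P : Subgroup G} {e : (k M)[G]}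

theorem Sev_count (hM : IsPModular 2 M) (hB : IsPBlock M B) (he : MaxPair 2 ⊤ (eb M B) P e)
    [IsMulCommutative P] {z : P} (hz : ∀ σ ∈ FE P e, σ z = z) (h8 : (zpowers z).index = 8)
    (h7 : 7 ∣ Nat.card (FE P e)) :
    Nat.card B = Nat.card (zpowers z) * (blockRank 2 B + Nat.card (FE P e) / 7) ∧
      ∀ u ∉ zpowers z, Nat.card (St (FE P e) u) ≤ 3 := by
  have := Fintype.ofFinite P
  have hab : P ≤ centralizer (P : Set G) := le_cent
  rcases B_cases he.bpair.pair.isP (FE P e) (not_dvd_FE hM he hab) hz h8 with h | ⟨h1, h2⟩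
  · exact absurd (h7.trans h.1) (by norm_num)
  · exact ⟨C_seven hM hB he hab hz h8 (by omega) (by omega) h2,
      fun u hu => by have := h2 u hu; omega⟩

theorem Sev_card (hM : IsPModular 2 M)
    (core : ∀ {K : Type u} [Group K] [Fintype K] {b : Set (IrrCharacter K)} {Q : Subgroup K}
      {f : (k M)[K]}, IsPBlock M b → MaxPair 2 ⊤ (eb M b) Q f → Nat.card Q = 8 →
      (∀ x ∈ Q, x * x = 1) → 7 ∣ Nat.card (FE Q f) → Nat.card b = 8)
    (hB : IsPBlock M B) (he : MaxPair 2 ⊤ (eb M B) P e) [IsMulCommutative P]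
    (h16 : Nat.card P = 16) (h7 : 7 ∣ Nat.card (FE P e)) :
    Nat.card B = Nat.card P ∧ ∃ u ∈ P, blockRank 2 (sbl 2 P e u) ≤ 3 := by
  have hab : P ≤ centralizer (P : Set G) := le_cent
  have hP := he.bpair.pair.isP
  have hE := not_dvd_FE hM he hab
  obtain ⟨z, hz, h8, hsq⟩ := Sev_fix hP hE (FE P e).subtype_injective h16 h7
  have hz' : ∀ σ ∈ FE P e, σ z = z := fun σ hσ => hz ⟨σ, hσ⟩
  obtain ⟨c1, c2⟩ := Sev_count hM hB he hz' h8 h7
  have h2 : Nat.card (zpowers z) = 2 := by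
    have := (zpowers z).card_mul_index
    rw [h8, h16] at this
    omega
  obtain ⟨K, _, _, Q, ρ, b, f, h⟩ := exists_dm hM hB he z (le_Cen_of_comm hab z.2)
  have hQ : Nat.card Q = 8 := h.card_eq.trans h8
  have hF : Nat.card (FE Q f) = Nat.card (FE P e) := by
    rw [h.card_FE_eq hM.1 hP hE, C_St hz']
  have := isComm_of (h.comm hab)
  have c3 := core h.blk h.max hQ (fun x hx => by
    obtain ⟨y, hy⟩ := h.surj ⟨x, hx⟩
    have h3 := congrArg (fun t => (ρ t : K)) (hsq y)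
    simpa [hy] using h3) (hF ▸ h7)
  have c4 := (Sev_count hM h.blk h.max (z := 1) (fun σ _ => map_one σ)
    (by rw [zpowers_one_eq_bot, index_bot, hQ]) (hF ▸ h7)).1
  rw [c3, zpowers_one_eq_bot, card_bot, one_mul, hF, h.rank, rank_sbl_eq hM hB he hab hz'] at c4
  refine ⟨by rw [c1, h2, ← c4, h16], ?_⟩
  obtain ⟨u, hu⟩ : ∃ u, u ∉ zpowers z := by
    by_contra! h3
    rw [(eq_top_iff' _).2 h3, index_top] at h8
    omega
  exact ⟨u, u.2, (rank_sbl_of_le_three hM hB he hab (c2 u hu)).trans_le (c2 u hu)⟩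

end CF.H16
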