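import Cfsg.Agent.H16.SevB
import Cfsg.Agent.E8b.H

/-! Heights in blocks with abelian defect group of order sixteen and inertial index divisible
by seven, given the count for elementary abelian defect groups of order eight. -/

set_option autoImplicit false

namespace CF.H16

open Cfsg MonoidAlgebra Subgroup CF.Block CF.BlockB CF.BlockK CF.E8b

universe u

theorem seven_height_of {M : Ideal AlgInt} {G : Type u} [Group G] [Finite G]
    {B : Set (IrrCharacter G)} {P : Subgroup G} {e : (k M)[G]} (hM : IsPModular 2 M)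
    (core : ∀ {K : Type u} [Group K] [Fintype K] {b : Set (IrrCharacter K)} {Q : Subgroup K}
      {f : (k M)[K]}, IsPBlock M b → MaxPair 2 ⊤ (eb M b) Q f → Nat.card Q = 8 →
      (∀ x ∈ Q, x * x = 1) → 7 ∣ Nat.card (FE Q f) → Nat.card b = 8)
    (hB : IsPBlock M B) (he : MaxPair 2 ⊤ (eb M B) P e) (hD : IsDefectGroup 2 M B P)
    [IsMulCommutative P] (h16 : Nat.card P = 16) (h7 : 7 ∣ Nat.card (FE P e)) :
    ∀ χ ∈ B, blockHeight 2 B (χ : G → ℂ) = 0 := by
  obtain ⟨h1, u, hu, h3⟩ := Sev_card hM core hB he h16 h7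
  exact H_zero hM hB hD he le_cent hu h3 h1

end CF.H16
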